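import Mathlib
import Groth.Agent.Lib.Helper2.Sch.FibDeg9

/-!
# Retrocompactness of the strata of the fibre degree (helper5)

For a flat, separated, quasi-compact, locally quasi-finite morphism locally of finite presentation,
the loci `{deg > d}` are retrocompact.  Built on helper2's `FibDeg` library.
-/

set_option autoImplicit false
set_option linter.style.haveILetI false
set_option linter.unusedSectionVars false
set_option linter.unusedVariables false

open CategoryTheory CategoryTheory.Limits AlgebraicGeometry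

universe u

namespace Groth.Agent.Lib.Helper5.FibDegRetro

open Groth.Agent.Helper2.FibDeg

/-- the locus where the fibre degree exceeds `d` -/
def Ad {X S : Scheme.{u}} (f : X ⟶ S) (d : ℕ) : Set S := {s | ¬ FibDegLE f s d}

theorem ad_baseChange {Z B Z' B' : Scheme.{u}} {h : Z ⟶ B} {h' : Z' ⟶ B'} {g' : Z' ⟶ Z}
    {g : B' ⟶ B} (sq : IsPullback g' h' h g) (d : ℕ) : Ad h' d = g ⁻¹' (Ad h d) := by
  ext b'
  exact not_congr (fibDegLE_baseChange_iff sq b' d)

/-- quasi-compact locally quasi-finite morphisms have fibres of finite degree -/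
theorem exists_fibDegLE {X S : Scheme.{u}} (f : X ⟶ S) [LocallyQuasiFinite f] [QuasiCompact f]
    (s : S) : ∃ n, FibDegLE f s n := by
  obtain ⟨K, _, μ, T, c, p, sq, e, -⟩ := exists_fiber f s
  haveI : LocallyQuasiFinite c :=
    MorphismProperty.of_isPullback (P := @LocallyQuasiFinite) sq.flip inferInstance
  haveI : QuasiCompact c :=
    MorphismProperty.of_isPullback (P := @QuasiCompact) sq.flip inferInstance
  haveI : IsLocallyArtinian (Spec (CommRingCat.of K)) := by
    rw [Scheme.isLocallyArtinianScheme_Spec]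
    infer_instance
  haveI : IsFinite c := IsFinite.of_locallyQuasiFinite c
  refine ⟨fdeg c, ?_⟩
  have := fibDegLE_of_degLE f μ c p sq ((degLE_iff c (fdeg c)).2 ⟨inferInstance, le_rfl⟩)
  rw [e] at this
  exact this

/-- passing from an open subscheme back to the ambient scheme -/
theorem restrict_step {X S : Scheme.{u}} (f : X ⟶ S) (Vo : S.Opens) (s : S) (hs : s ∈ Vo) (d : ℕ)
    (H : ∃ O : (Vo : Scheme.{u}).Opens, (⟨s, hs⟩ : Vo) ∈ O ∧
      IsCompact ((O : Set Vo) ∩ Ad (pullback.snd f Vo.ι) d)) :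
    ∃ W : Set S, IsOpen W ∧ s ∈ W ∧ W ⊆ Vo ∧ IsCompact (W ∩ Ad f d) := by
  obtain ⟨O, hO, hc⟩ := H
  refine ⟨Vo.ι '' (O : Set Vo), Vo.ι.isOpenEmbedding.isOpenMap _ O.isOpen, ⟨⟨s, hs⟩, hO, rfl⟩, ?_, ?_⟩
  · rintro _ ⟨x, -, rfl⟩
    exact x.2
  · rw [ad_baseChange (IsPullback.of_hasPullback f Vo.ι) d] at hc
    rw [← Set.image_inter_preimage]
    exact hc.image Vo.ι.continuous

/-- finite union argument -/
theorem isCompact_inter_of_local {T : Type*} [TopologicalSpace T] (V A : Set T) (hV : IsCompact V)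
    (key : ∀ s ∈ V, ∃ W : Set T, IsOpen W ∧ s ∈ W ∧ W ⊆ V ∧ IsCompact (W ∩ A)) :
    IsCompact (V ∩ A) := by
  choose! W hWo hWm hWs hWc using key
  obtain ⟨t, ht, hcov⟩ := hV.elim_nhds_subcover W (fun x hx => (hWo x hx).mem_nhds (hWm x hx))
  have : V ∩ A = ⋃ x ∈ t, (W x ∩ A) := by
    ext y
    simp only [Set.mem_inter_iff, Set.mem_iUnion, exists_prop]
    constructor
    · rintro ⟨hy, hyA⟩
      obtain ⟨x, hx, hyx⟩ := Set.mem_iUnion₂.1 (hcov hy)
      exact ⟨x, hx, hyx, hyA⟩
    · rintro ⟨x, hx, hyx, hyA⟩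
      exact ⟨hWs x (ht x hx) hyx, hyA⟩
  rw [this]
  exact t.isCompact_biUnion (fun x hx => hWc x (ht x hx))

/-- the main induction -/
theorem exists_open_isCompact_inter (j : ℕ) : ∀ {X S : Scheme.{u}} (f : X ⟶ S) [Flat f]
    [LocallyOfFinitePresentation f] [IsSeparated f] [LocallyQuasiFinite f] [QuasiCompact f]
    (s : S) (d n : ℕ), (∀ k, FibDegLE f s k ↔ n ≤ k) → d < n + j →
    ∃ O : S.Opens, s ∈ O ∧ IsCompact ((O : Set S) ∩ Ad f d) := by
  induction j with
  | zero =>
    intro X S f _ _ _ _ _ s d n hn hd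
    obtain ⟨U, g, hg, u, hgu, V, hVcl, hVfin, hVpts⟩ := hasSplit_of_fibDegLE n f s ((hn n).2 le_rfl)
    haveI := hg
    haveI := hVfin
    have sq := IsPullback.of_hasPullback f g
    have hfr : (V.ι ≫ pullback.snd f g).finrank u = n := by
      have h1 : ∀ k, (V.ι ≫ pullback.snd f g).finrank u ≤ k ↔ n ≤ k := fun k => by
        rw [← fibDegLE_iff_of_forall_mem _ V u hVpts k, fibDegLE_baseChange_iff sq u k, hgu]
        exact hn k
      exact le_antisymm ((h1 n).2 le_rfl) ((h1 _).1 le_rfl)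
    have hN : IsOpen {u' | (V.ι ≫ pullback.snd f g).finrank u' = (V.ι ≫ pullback.snd f g).finrank u} :=
      (Scheme.Hom.isLocallyConstant_finrank (V.ι ≫ pullback.snd f g)).isOpen_fiber _
    obtain ⟨_, ⟨U₀, hU₀, rfl⟩, huU₀, hU₀N⟩ :=
      U.isBasis_affineOpens.exists_subset_of_mem_open
        (show u ∈ {u' | (V.ι ≫ pullback.snd f g).finrank u' =
          (V.ι ≫ pullback.snd f g).finrank u} from rfl) hN
    refine ⟨⟨g '' (U₀ : Set U), g.isOpenMap _ U₀.isOpen⟩, ⟨u, huU₀, hgu⟩, ?_⟩
    have hall : (U₀ : Set U) ∩ Ad (pullback.snd f g) d = (U₀ : Set U) := by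
      apply Set.inter_eq_left.2
      intro u' hu' H
      have h1 := (finrank_le_of_fibDegLE _ V hVcl u' d H).1
      have h2 : (V.ι ≫ pullback.snd f g).finrank u' = n := (hU₀N hu').trans hfr
      omega
    show IsCompact (g '' (U₀ : Set U) ∩ Ad f d)
    rw [← Set.image_inter_preimage, ← ad_baseChange sq d, hall]
    exact (IsAffineOpen.isCompact hU₀).image g.continuous
  | succ j ih =>
    intro X S f _ _ _ _ _ s d n hn hd
    obtain ⟨U, g, hg, u, hgu, V, hVcl, hVfin, hVpts⟩ := hasSplit_of_fibDegLE n f s ((hn n).2 le_rfl)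
    haveI := hg
    haveI := hVfin
    have sq := IsPullback.of_hasPullback f g
    have hfr : (V.ι ≫ pullback.snd f g).finrank u = n := by
      have h1 : ∀ k, (V.ι ≫ pullback.snd f g).finrank u ≤ k ↔ n ≤ k := fun k => by
        rw [← fibDegLE_iff_of_forall_mem _ V u hVpts k, fibDegLE_baseChange_iff sq u k, hgu]
        exact hn k
      exact le_antisymm ((h1 n).2 le_rfl) ((h1 _).1 le_rfl)
    have hN : IsOpen {u' | (V.ι ≫ pullback.snd f g).finrank u' = (V.ι ≫ pullback.snd f g).finrank u} :=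
      (Scheme.Hom.isLocallyConstant_finrank (V.ι ≫ pullback.snd f g)).isOpen_fiber _
    obtain ⟨_, ⟨U₀, hU₀, rfl⟩, huU₀, hU₀N⟩ :=
      U.isBasis_affineOpens.exists_subset_of_mem_open
        (show u ∈ {u' | (V.ι ≫ pullback.snd f g).finrank u' =
          (V.ι ≫ pullback.snd f g).finrank u} from rfl) hN
    refine ⟨⟨g '' (U₀ : Set U), g.isOpenMap _ U₀.isOpen⟩, ⟨u, huU₀, hgu⟩, ?_⟩
    show IsCompact (g '' (U₀ : Set U) ∩ Ad f d)
    rw [← Set.image_inter_preimage, ← ad_baseChange sq d]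
    refine IsCompact.image ?_ g.continuous
    by_cases hdn : d < n
    · have hall : (U₀ : Set U) ∩ Ad (pullback.snd f g) d = (U₀ : Set U) := by
        apply Set.inter_eq_left.2
        intro u' hu' H
        have h1 := (finrank_le_of_fibDegLE _ V hVcl u' d H).1
        have h2 : (V.ι ≫ pullback.snd f g).finrank u' = n := (hU₀N hu').trans hfr
        omega
      rw [hall]
      exact IsAffineOpen.isCompact hU₀
    · push Not at hdn
      -- the locus where the fibre is not contained in `V`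
      set h := pullback.snd f g with hh
      have hU₁o : IsOpen ((U₀ : Set U) ∩ h '' ((V : Set ↑(pullback f g))ᶜ)) :=
        U₀.isOpen.inter (h.isOpenMap _ hVcl.isOpen_compl)
      have hU₁c : IsCompact ((U₀ : Set U) ∩ h '' ((V : Set ↑(pullback f g))ᶜ)) := by
        rw [Set.inter_comm, ← Set.image_inter_preimage]
        refine IsCompact.image ?_ h.continuous
        exact (QuasiCompact.isCompact_preimage (f := h) _ U₀.isOpen
          (IsAffineOpen.isCompact hU₀)).inter_left V.isOpen.isClosed_compl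
      have hsub : (U₀ : Set U) ∩ Ad h d =
          ((U₀ : Set U) ∩ h '' ((V : Set ↑(pullback f g))ᶜ)) ∩ Ad h d := by
        ext u'
        constructor
        · rintro ⟨hu', hA⟩
          refine ⟨⟨hu', ?_⟩, hA⟩
          by_contra hcon
          apply hA
          have hV' : ∀ z : ↑(pullback f g), h z = u' → z ∈ V := by
            intro z hz
            by_contra hzV
            exact hcon ⟨z, hzV, hz⟩
          rw [fibDegLE_iff_of_forall_mem h V u' hV' d]
          have h2 : (V.ι ≫ h).finrank u' = n := (hU₀N hu').trans hfr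
          omega
        · rintro ⟨⟨hu', -⟩, hA⟩
          exact ⟨hu', hA⟩
      rw [hsub]
      apply isCompact_inter_of_local _ _ hU₁c
      intro u' hu'
      obtain ⟨hu'₀, z, hzV, hz⟩ := hu'
      -- restrict to the open subscheme
      let U₁ : U.Opens := ⟨(U₀ : Set U) ∩ h '' ((V : Set ↑(pullback f g))ᶜ), hU₁o⟩
      have hu'₁ : u' ∈ U₁ := ⟨hu'₀, z, hzV, hz⟩
      apply restrict_step h U₁ u' hu'₁ d
      obtain ⟨deg, hdeg⟩ := exists_deg (pullback.snd h U₁.ι)
        (fun x => exists_fibDegLE (pullback.snd h U₁.ι) x)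
      have hn' : n + 1 ≤ deg ⟨u', hu'₁⟩ := by
        have H1 : FibDegLE (pullback.snd h U₁.ι) ⟨u', hu'₁⟩ (deg ⟨u', hu'₁⟩) :=
          (hdeg _ _).1 le_rfl
        have H2 : FibDegLE h u' (deg ⟨u', hu'₁⟩) :=
          (fibDegLE_baseChange_iff (IsPullback.of_hasPullback h U₁.ι) ⟨u', hu'₁⟩ _).1 H1
        obtain ⟨h1, h2⟩ := finrank_le_of_fibDegLE h V hVcl u' _ H2
        have h3 : (V.ι ≫ h).finrank u' = n := (hU₀N hu'₀).trans hfr
        rcases Nat.lt_or_ge n (deg ⟨u', hu'₁⟩) with hlt | hge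
        · exact hlt
        · exfalso
          exact hzV (h2 (by omega) z hz)
      exact ih (pullback.snd h U₁.ι) ⟨u', hu'₁⟩ d (deg ⟨u', hu'₁⟩)
        (fun k => (hdeg _ k).symm) (by omega)

/-- **retrocompactness of `{deg > d}`** -/
theorem isRetrocompact_ad {X S : Scheme.{u}} (f : X ⟶ S) [Flat f]
    [LocallyOfFinitePresentation f] [IsSeparated f] [LocallyQuasiFinite f] [QuasiCompact f]
    (d : ℕ) : IsRetrocompact (Ad f d) := by
  intro V hVc hVo
  rw [Set.inter_comm]
  apply isCompact_inter_of_local _ _ hVc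
  intro s hs
  let Vo : S.Opens := ⟨V, hVo⟩
  apply restrict_step f Vo s hs d
  obtain ⟨deg, hdeg⟩ := exists_deg (pullback.snd f Vo.ι)
    (fun x => exists_fibDegLE (pullback.snd f Vo.ι) x)
  exact exists_open_isCompact_inter (d + 1) (pullback.snd f Vo.ι) ⟨s, hs⟩ d (deg ⟨s, hs⟩)
    (fun k => (hdeg _ k).symm) (by omega)

/-- **the stratification by fibre degree** for quasi-compact morphisms -/
theorem main {X S : Scheme.{u}} (f : X ⟶ S) [Flat f] [LocallyOfFinitePresentation f]
    [IsSeparated f] [LocallyQuasiFinite f] [QuasiCompact f] :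
    ∃ deg : ↑S → ℕ, (∀ r : ℕ, IsClosed {s : ↑S | deg s ≤ r}) ∧
      (∀ r : ℕ, IsRetrocompact {s : ↑S | deg s = r}) ∧
      ∀ (T : Scheme.{u}) (g : T ⟶ S) (r : ℕ),
        Mor2.IsFinLocFreeOfDeg r (pullback.snd f g) ↔ ∀ t : T, deg (g t) = r := by
  obtain ⟨deg, hdeg⟩ := exists_deg f (exists_fibDegLE f)
  obtain ⟨h1, h2⟩ := stratification f deg hdeg
  refine ⟨deg, h1, fun r => ?_, h2⟩
  intro W hWc hWo
  rcases Nat.eq_zero_or_pos r with rfl | hr
  · have : {s : ↑S | deg s = 0} = {s : ↑S | deg s ≤ 0} := by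
      ext s
      simp
    rw [this]
    exact hWc.inter_left (h1 0)
  · have : {s : ↑S | deg s = r} = {s : ↑S | deg s ≤ r} ∩ Ad f (r - 1) := by
      ext s
      simp only [Set.mem_ofPred_eq, Set.mem_inter_iff, Ad, ← hdeg]
      omega
    rw [this, Set.inter_assoc]
    exact (isRetrocompact_ad f (r - 1) hWc hWo).inter_left (h1 r)

end Groth.Agent.Lib.Helper5.FibDegRetro
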